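import Cfsg.Agent.FrobFree.Ring

set_option autoImplicit false

namespace Cfsg.Agent.FrobFree

variable {k V H : Type*} [Field k] [AddCommGroup V] [Module k V] [Group H] [Fintype H]

/-- the conjugates of `e` under `σ` are orthogonal idempotents with sum `Q` -/
def Splits (σ : H →* Module.End k V) (Q e : Module.End k V) : Prop :=
  (∑ h : H, σ h * e * σ h⁻¹ = Q) ∧
    ∀ h : H, (σ h * e * σ h⁻¹) * (σ h * e * σ h⁻¹) = σ h * e * σ h⁻¹ ∧
      ∀ h' : H, h ≠ h' → (σ h * e * σ h⁻¹) * (σ h' * e * σ h'⁻¹) = 0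

theorem Splits.absorb {σ : H →* Module.End k V} {Q e : Module.End k V} (he : Splits σ Q e) (h : H) :
    (σ h * e * σ h⁻¹) * Q = σ h * e * σ h⁻¹ ∧ Q * (σ h * e * σ h⁻¹) = σ h * e * σ h⁻¹ := by
  classical
  constructor
  · rw [← he.1, Finset.mul_sum, Finset.sum_eq_single h (fun b _ hb => (he.2 h).2 b (Ne.symm hb))
      (by simp)]
    exact (he.2 h).1
  · rw [← he.1, Finset.sum_mul, Finset.sum_eq_single h (fun b _ hb => (he.2 b).2 h hb)
      (by simp)]
    exact (he.2 h).1

theorem Splits.add {σ : H →* Module.End k V} {Q Q' e e' : Module.End k V} (he : Splits σ Q e)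
    (he' : Splits σ Q' e') (h1 : Q * Q' = 0) (h2 : Q' * Q = 0) : Splits σ (Q + Q') (e + e') := by
  have hd : ∀ h, σ h * (e + e') * σ h⁻¹ = σ h * e * σ h⁻¹ + σ h * e' * σ h⁻¹ := fun h => by
    rw [mul_add, add_mul]
  have c1 : ∀ a b, (σ a * e * σ a⁻¹) * (σ b * e' * σ b⁻¹) = 0 := fun a b => by
    rw [← (he.absorb a).1, ← (he'.absorb b).2, mul_assoc _ Q _, ← mul_assoc Q Q', h1]
    simp
  have c2 : ∀ a b, (σ a * e' * σ a⁻¹) * (σ b * e * σ b⁻¹) = 0 := fun a b => by
    rw [← (he'.absorb a).1, ← (he.absorb b).2, mul_assoc _ Q' _, ← mul_assoc Q' Q, h2]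
    simp
  refine ⟨by simp only [hd, Finset.sum_add_distrib, he.1, he'.1], fun h => ⟨?_, fun h' hne => ?_⟩⟩
  · rw [hd, add_mul, mul_add, mul_add, c1, c2, (he.2 h).1, (he'.2 h).1, add_zero, zero_add]
  · rw [hd, hd, add_mul, mul_add, mul_add, c1, c2, (he.2 h).2 h' hne, (he'.2 h).2 h' hne, add_zero,
      add_zero]

/-- the averaging operator of a representation of a finite group -/
noncomputable def avg {G : Type*} [Group G] [Fintype G] (ρ : G →* Module.End k V) : Module.End k V :=
  (Fintype.card G : k)⁻¹ • ∑ g, ρ g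

theorem avg_absorb {G : Type*} [Group G] [Fintype G] (ρ : G →* Module.End k V) (z : G) :
    ρ z * avg ρ = avg ρ ∧ avg ρ * ρ z = avg ρ := by
  simp only [avg, mul_smul_comm, smul_mul_assoc, Finset.mul_sum, Finset.sum_mul, ← map_mul]
  exact ⟨by rw [Fintype.sum_equiv (Equiv.mulLeft z) (fun x => ρ (z * x)) (fun x => ρ x) (fun _ => rfl)],
    by rw [Fintype.sum_equiv (Equiv.mulRight z) (fun x => ρ (x * z)) (fun x => ρ x) (fun _ => rfl)]⟩

theorem avg_mul_of_fix {G : Type*} [Group G] [Fintype G] (hG : (Fintype.card G : k) ≠ 0)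
    (ρ : G →* Module.End k V) (X : Module.End k V) :
    ((∀ g, ρ g * X = X) → avg ρ * X = X) ∧ ((∀ g, X * ρ g = X) → X * avg ρ = X) := by
  constructor <;> intro h <;>
    simp only [avg, smul_mul_assoc, mul_smul_comm, Finset.sum_mul, Finset.mul_sum, h, Finset.sum_const,
      Finset.card_univ] <;>
    rw [← Nat.cast_smul_eq_nsmul k, smul_smul, inv_mul_cancel₀ hG, one_smul]

theorem avg_idem {G : Type*} [Group G] [Fintype G] (hG : (Fintype.card G : k) ≠ 0)
    (ρ : G →* Module.End k V) : avg ρ * avg ρ = avg ρ :=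
  (avg_mul_of_fix hG ρ _).1 fun g => (avg_absorb ρ g).1

theorem avg_conj {G : Type*} [Group G] [Fintype G] (ρ : G →* Module.End k V) (ψ : G ≃* G)
    (s : Module.End k V) (hs : ∀ g, s * ρ g = ρ (ψ g) * s) : s * avg ρ = avg ρ * s := by
  simp only [avg, mul_smul_comm, smul_mul_assoc, Finset.mul_sum, Finset.sum_mul, hs]
  rw [Fintype.sum_equiv ψ.toEquiv (fun g => ρ (ψ g) * s) (fun g => ρ g * s) (fun _ => rfl)]

/-- the abelian case -/
theorem splits_abelian {B : Type*} [CommGroup B] [Fintype B] (hB : (Fintype.card B : k) ≠ 0)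
    (ρ : B →* Module.End k V) (σ : H →* Module.End k V) (φ : H →* MulAut B)
    (hcomp : ∀ h b, σ h * ρ b = ρ (φ h b) * σ h) (hfpf : ∀ h b, φ h b = b → h = 1 ∨ b = 1) :
    ∃ e, Splits σ (1 - avg ρ) e := by
  classical
  haveI : NeZero (Nat.card B : k) := ⟨by rwa [Nat.card_eq_fintype_card]⟩
  let α : H →* (MonoidAlgebra k B ≃+* MonoidAlgebra k B) :=
    { toFun := fun h => (MonoidAlgebra.domCongrAut (R := k) (A := k) (φ h)).toRingEquiv
      map_one' := by simp only [map_one]; rfl
      map_mul' := fun a b => by simp only [map_mul]; rfl }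
  have αof : ∀ h b, α h (MonoidAlgebra.of k B b) = MonoidAlgebra.of k B (φ h b) := fun h b => by
    simp [α, MonoidAlgebra.domCongrAut]
  have αsmul : ∀ h (c : k) r, α h (c • r) = c • α h r := fun h c r =>
    map_smul (MonoidAlgebra.domCongrAut (R := k) (A := k) (φ h)) c r
  let F : MonoidAlgebra k B →ₐ[k] Module.End k V := MonoidAlgebra.lift k (Module.End k V) B ρ
  let q : MonoidAlgebra k B := (Fintype.card B : k)⁻¹ • ∑ b, MonoidAlgebra.of k B b
  have hFq : F q = avg ρ := by simp [F, q, avg]
  have hqb : ∀ b, MonoidAlgebra.of k B b * q = q := fun b => by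
    simp only [q, mul_smul_comm, Finset.mul_sum, ← map_mul]
    rw [Fintype.sum_equiv (Equiv.mulLeft b) (fun x => MonoidAlgebra.of k B (b * x))
      (fun x => MonoidAlgebra.of k B x) (fun _ => rfl)]
  have hqq : q * q = q := by
    calc q * q = (Fintype.card B : k)⁻¹ • ∑ b, MonoidAlgebra.of k B b * q := by
          rw [← Finset.sum_mul, ← smul_mul_assoc]
      _ = q := by
          simp only [hqb, Finset.sum_const, Finset.card_univ]
          rw [← Nat.cast_smul_eq_nsmul k, smul_smul, inv_mul_cancel₀ hB, one_smul]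
  set Q := 1 - q with hQdef
  have hQ : Q * Q = Q := by rw [hQdef, sub_mul, one_mul, mul_sub, mul_one, hqq, sub_self, sub_zero]
  have hfix : ∀ h, α h Q = Q := fun h => by
    rw [hQdef, map_sub, map_one]
    simp only [q, αsmul, map_sum, αof]
    rw [Fintype.sum_equiv (φ h).toEquiv (fun b => MonoidAlgebra.of k B (φ h b))
      (fun b => MonoidAlgebra.of k B b) (fun _ => rfl)]
  obtain ⟨θ, θ', hθ', hA, hT⟩ := galois_pair α Q hQ hfix (by
    intro m hm hQm h hh
    by_contra hcon
    push Not at hcon
    have hinj : Function.Injective fun b => b⁻¹ * φ h b := by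
      intro a b hab
      have : φ h (a * b⁻¹) = a * b⁻¹ := by
        have ha : φ h a = a * (b⁻¹ * φ h b) := by
          simp only at hab
          rw [← hab, mul_inv_cancel_left]
        rw [map_mul, map_inv, ha]
        group
      exact mul_inv_eq_one.mp ((hfpf _ _ this).resolve_left hh)
    have h1 : ∀ b, MonoidAlgebra.of k B b - 1 ∈ m := by
      intro c
      obtain ⟨b, rfl⟩ := Finite.surjective_of_injective hinj c
      have := m.mul_mem_left (MonoidAlgebra.of k B b⁻¹) (hcon (MonoidAlgebra.of k B b))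
      rwa [αof, mul_sub, ← map_mul, ← map_mul, inv_mul_cancel, map_one] at this
    apply hQm
    have : Q = -((Fintype.card B : k)⁻¹ • ∑ b, (MonoidAlgebra.of k B b - 1)) := by
      rw [hQdef, Finset.sum_sub_distrib, smul_sub, Finset.sum_const, Finset.card_univ,
        ← Nat.cast_smul_eq_nsmul k, smul_smul, inv_mul_cancel₀ hB, one_smul, neg_sub]
    rw [this, Algebra.smul_def]
    exact neg_mem (m.mul_mem_left _ (Ideal.sum_mem _ fun b _ => h1 b)))
  have hσF : ∀ h r, σ h * F r = F (α h r) * σ h := by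
    intro h r
    induction r using MonoidAlgebra.induction_on with
    | of b => rw [αof]; simp [F, hcomp]
    | add a b ha hb => rw [map_add, mul_add, ha, hb, map_add, map_add, add_mul]
    | smul c a ha => rw [map_smul, αsmul, map_smul, mul_smul_comm, ha, smul_mul_assoc]
  set T : Module.End k V := ∑ g, σ g with hTdef
  have hσT : ∀ g, σ g * T = T := fun g => by
    rw [hTdef, Finset.mul_sum]
    simp only [← map_mul]
    exact Fintype.sum_equiv (Equiv.mulLeft g) _ _ (fun _ => rfl)
  have hTσ : ∀ g, T * σ g = T := fun g => by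
    rw [hTdef, Finset.sum_mul]
    simp only [← map_mul]
    exact Fintype.sum_equiv (Equiv.mulRight g) _ _ (fun _ => rfl)
  refine ⟨F θ' * T * F θ, ?_⟩
  have hE : ∀ h, σ h * (F θ' * T * F θ) * σ h⁻¹ = F (α h θ') * T * F (α h θ) := fun h => by
    calc σ h * (F θ' * T * F θ) * σ h⁻¹ = (σ h * F θ') * T * F θ * σ h⁻¹ := by noncomm_ring
      _ = F (α h θ') * ((σ h * T) * F θ) * σ h⁻¹ := by rw [hσF]; noncomm_ring
      _ = F (α h θ') * ((T * σ h) * F θ) * σ h⁻¹ := by rw [hσT, hTσ]
      _ = F (α h θ') * T * (σ h * F θ) * σ h⁻¹ := by noncomm_ring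
      _ = F (α h θ') * T * F (α h θ) := by
          rw [hσF]
          simp only [mul_assoc, ← map_mul σ, mul_inv_cancel, map_one, mul_one]
  have hTF : ∀ r, T * F r = ∑ g, F (α g r) * σ g := fun r => by
    rw [hTdef, Finset.sum_mul]; exact Finset.sum_congr rfl fun g _ => hσF g r
  have hQF : F Q = 1 - avg ρ := by rw [hQdef, map_sub, map_one, hFq]
  refine ⟨?_, ?_⟩
  · rw [← hQF]
    simp only [hE]
    simp only [mul_assoc, hTF, Finset.mul_sum]
    rw [Finset.sum_comm]
    have : ∀ g, ∑ h, F (α h θ') * (F (α g (α h θ)) * σ g) = F (if g = 1 then Q else 0) * σ g := by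
      intro g
      rw [← hA g, map_sum, Finset.sum_mul]
      refine Finset.sum_congr rfl fun h _ => ?_
      rw [← mul_assoc, ← map_mul F, mul_comm, map_mul α g h]; rfl
    simp only [this]
    rw [Finset.sum_eq_single 1 (fun g _ hg => by simp [hg]) (by simp)]
    simp
  · have hmid : ∀ h h', (F (α h θ') * T * F (α h θ)) * (F (α h' θ') * T * F (α h' θ)) =
        F (α h θ' * (if h = h' then Q else 0)) * T * F (α h' θ) := by
      intro h h'
      have hTFT : ∀ r, T * F r * T = F (∑ g, α g r) * T := fun r => by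
        rw [hTF, Finset.sum_mul, map_sum, Finset.sum_mul]
        exact Finset.sum_congr rfl fun g _ => by rw [mul_assoc, hσT]
      calc (F (α h θ') * T * F (α h θ)) * (F (α h' θ') * T * F (α h' θ))
          = F (α h θ') * (T * (F (α h θ) * F (α h' θ')) * T) * F (α h' θ) := by noncomm_ring
        _ = _ := by rw [← map_mul F (α h θ), hTFT, hT, ← mul_assoc, ← map_mul F]
    refine fun h => ⟨?_, fun h' hne => ?_⟩
    · rw [hE, hmid, if_pos rfl]
      congr 3
      rw [← hfix h, ← map_mul, mul_comm, hθ']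
    · rw [hE, hE, hmid, if_neg hne]
      simp

/-- the solvable case, by the derived series -/
theorem splits_solvable {N : Type*} [Group N] [Fintype N] [Group.IsSolvable N]
    (hN : (Fintype.card N : k) ≠ 0) (ρ : N →* Module.End k V) (σ : H →* Module.End k V)
    (φ : H →* MulAut N) (hcomp : ∀ h n, σ h * ρ n = ρ (φ h n) * σ h)
    (hfpf : ∀ h n, φ h n = n → h = 1 ∨ n = 1) (D : Subgroup N) [Fintype D]
    (hD : ∀ h, ∀ x ∈ D, φ h x ∈ D) :
    ∃ e, Splits σ (1 - avg (ρ.comp D.subtype)) e := by
  classical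
  suffices ∀ (n : ℕ) (D : Subgroup N), Nat.card D = n → (∀ h, ∀ x ∈ D, φ h x ∈ D) →
      ∀ [Fintype D], ∃ e, Splits σ (1 - avg (ρ.comp D.subtype)) e from this _ D rfl hD
  intro n
  induction n using Nat.strong_induction_on with
  | _ n IH =>
  intro D hn hD _
  by_cases hbot : D = ⊥
  · subst hbot
    refine ⟨0, ?_, fun h => ⟨by simp, fun h' _ => by simp⟩⟩
    simp [avg, Subsingleton.elim (default : (⊥ : Subgroup N)) 1]
  have hcard : ∀ (L : Subgroup N) [Fintype L], (Fintype.card L : k) ≠ 0 := fun L _ h0 => hN (by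
    obtain ⟨c, hc⟩ := L.card_subgroup_dvd_card
    rw [← Nat.card_eq_fintype_card, hc, Nat.cast_mul, Nat.card_eq_fintype_card, h0, zero_mul])
  have hmapD : ∀ h, D.map (φ h).toMonoidHom = D := fun h => by
    refine le_antisymm ?_ fun x hx => ⟨φ h⁻¹ x, hD _ x hx, by simp⟩
    rintro _ ⟨x, hx, rfl⟩; exact hD h x hx
  let K : Subgroup N := ⁅D, D⁆
  have hKD : K ≤ D := Subgroup.commutator_le.mpr fun a ha b hb =>
    mul_mem (mul_mem (mul_mem ha hb) (inv_mem ha)) (inv_mem hb)
  have hK : ∀ h, ∀ x ∈ K, φ h x ∈ K := fun h x hx => by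
    have : K.map (φ h).toMonoidHom = K := by rw [Subgroup.map_commutator, hmapD]
    exact this ▸ Subgroup.mem_map_of_mem _ hx
  have hlt : Nat.card K < n := by
    rw [← hn]
    have hlt' : K < D := Group.IsSolvable.commutator_lt_of_ne_bot hbot
    exact lt_of_le_of_ne (Subgroup.card_le_of_le hKD)
      (fun h => hlt'.ne (Subgroup.eq_of_le_of_card_ge hKD h.ge))
  obtain ⟨e₁, he₁⟩ := IH _ hlt K rfl hK
  set PD := avg (ρ.comp D.subtype) with hPD
  set PK := avg (ρ.comp K.subtype) with hPK
  have hKmap : (commutator D).map D.subtype = K := Subgroup.map_subtype_commutator D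
  have hDK : ∀ z : D, ρ z * PK = PK * ρ z := by
    intro z
    have hnorm : ∀ x ∈ K, (z : N) * x * (z : N)⁻¹ ∈ K := by
      intro x hx
      rw [← hKmap] at hx ⊢
      obtain ⟨y, hy, rfl⟩ := hx
      exact ⟨z * y * z⁻¹, Subgroup.Normal.conj_mem inferInstance y hy z, rfl⟩
    let ψ0 : K →* K := MonoidHom.mk' (fun x => ⟨(z : N) * x * (z : N)⁻¹, hnorm _ x.2⟩)
      (fun a b => Subtype.ext (by simp [mul_assoc]))
    have hb : Function.Bijective ψ0 := Finite.injective_iff_bijective.mp (fun a b hab => by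
      have := congrArg Subtype.val hab
      exact Subtype.ext (by simpa [ψ0] using this))
    exact avg_conj (ρ.comp K.subtype) (MulEquiv.ofBijective ψ0 hb) (ρ z) (fun g => by
      show ρ z * ρ g = ρ ((z : N) * g * (z : N)⁻¹) * ρ z
      rw [← map_mul, ← map_mul, inv_mul_cancel_right])
  have hPKK : PK * PK = PK := avg_idem (hcard K) _
  have hKPD : PK * PD = PD ∧ PD * PK = PD :=
    ⟨(avg_mul_of_fix (hcard K) _ _).1 fun g => (avg_absorb (ρ.comp D.subtype) ⟨g, hKD g.2⟩).1,
     (avg_mul_of_fix (hcard K) _ _).2 fun g => (avg_absorb (ρ.comp D.subtype) ⟨g, hKD g.2⟩).2⟩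
  -- representation of the abelianisation on the fixed space of `K`
  let ρD : D →* Module.End k V :=
    { toFun := fun z => ρ z * PK + (1 - PK)
      map_one' := by simp
      map_mul' := fun a b => by
        have h1 : (1 - PK) * PK = 0 := by rw [sub_mul, one_mul, hPKK, sub_self]
        have h2 : PK * (1 - PK) = 0 := by rw [mul_sub, mul_one, hPKK, sub_self]
        have h3 : (1 - PK) * (1 - PK) = 1 - PK := by rw [sub_mul, one_mul, h2, sub_zero]
        have h4 : (1 - PK) * ρ b * PK = 0 := by
          rw [mul_assoc, hDK, ← mul_assoc, h1, zero_mul]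
        have h5 : ρ a * PK * (ρ b * PK) = ρ (a * b : D) * PK := by
          rw [mul_assoc, ← mul_assoc PK, ← hDK, mul_assoc, hPKK, ← mul_assoc, ← map_mul]; rfl
        rw [add_mul, mul_add, mul_add, h5, mul_assoc (ρ a) PK (1 - PK), h2, ← mul_assoc (1 - PK),
          h4, h3]
        simp }
  have hker : commutator D ≤ ρD.ker := fun z hz => by
    have hzK : (z : N) ∈ K := hKmap ▸ Subgroup.mem_map_of_mem D.subtype hz
    rw [MonoidHom.mem_ker]
    show ρ z * PK + (1 - PK) = 1
    rw [show ρ z * PK = PK from (avg_absorb (ρ.comp K.subtype) ⟨z, hzK⟩).1]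
    abel
  haveI : Fintype (Abelianization D) := Fintype.ofFinite _
  let ρB : Abelianization D →* Module.End k V := QuotientGroup.lift _ ρD hker
  let φD : H → (D ≃* D) := fun h =>
    { toFun := fun x => ⟨φ h x, hD h x x.2⟩
      invFun := fun x => ⟨φ h⁻¹ x, hD h⁻¹ x x.2⟩
      left_inv := fun x => Subtype.ext (by simp)
      right_inv := fun x => Subtype.ext (by simp)
      map_mul' := fun a b => Subtype.ext (by simp) }
  let φB : H →* MulAut (Abelianization D) :=
    { toFun := fun h => (φD h).abelianizationCongr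
      map_one' := MulEquiv.ext fun b => by
        induction b using QuotientGroup.induction_on with
        | _ z =>
          show Abelianization.of (φD 1 z) = Abelianization.of z
          congr 1; exact Subtype.ext (by simp [φD])
      map_mul' := fun a b => MulEquiv.ext fun c => by
        induction c using QuotientGroup.induction_on with
        | _ z =>
          show Abelianization.of (φD (a * b) z) = Abelianization.of (φD a (φD b z))
          congr 1; exact Subtype.ext (by simp [φD]) }
  have hσK : ∀ h, σ h * PK = PK * σ h := fun h => by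
    let ψ : K ≃* K :=
    { toFun := fun x => ⟨φ h x, hK h x x.2⟩
      invFun := fun x => ⟨φ h⁻¹ x, hK h⁻¹ x x.2⟩
      left_inv := fun x => Subtype.ext (by simp)
      right_inv := fun x => Subtype.ext (by simp)
      map_mul' := fun a b => Subtype.ext (by simp) }
    exact avg_conj _ ψ _ fun g => hcomp h g
  have hcardB : (Fintype.card (Abelianization D) : k) ≠ 0 := fun h0 => hcard D (by
    obtain ⟨c, hc⟩ := Subgroup.card_quotient_dvd_card (commutator D)
    rw [← Nat.card_eq_fintype_card, hc, Nat.cast_mul]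
    have : (Nat.card (Abelianization D) : k) = 0 := by rw [Nat.card_eq_fintype_card]; exact h0
    rw [show Nat.card (D ⧸ commutator D) = Nat.card (Abelianization D) from rfl, this, zero_mul])
  obtain ⟨e₂, he₂⟩ := splits_abelian hcardB ρB σ φB
    (fun h b => by
      induction b using QuotientGroup.induction_on with
      | _ z =>
        show σ h * (ρ z * PK + (1 - PK)) = (ρ (φ h z) * PK + (1 - PK)) * σ h
        rw [mul_add, add_mul, mul_sub, sub_mul, mul_one, one_mul, ← mul_assoc, hcomp, mul_assoc, hσK,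
          ← mul_assoc])
    (fun h b hb => by
      induction b using QuotientGroup.induction_on with
      | _ z =>
        by_cases hh : h = 1
        · exact Or.inl hh
        right
        have hzK : (z : N)⁻¹ * φ h z ∈ K := by
          rw [← hKmap]
          refine ⟨z⁻¹ * φD h z, ?_, rfl⟩
          exact QuotientGroup.eq.mp (hb : Abelianization.of (φD h z) = Abelianization.of z).symm
        have hinj : Function.Injective fun c : K => (⟨(c : N)⁻¹ * φ h c,
            mul_mem (inv_mem c.2) (hK h _ c.2)⟩ : K) := by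
          intro a b hab
          have hab' : (a : N)⁻¹ * φ h a = (b : N)⁻¹ * φ h b := congrArg Subtype.val hab
          have ha : φ h a = a * ((b : N)⁻¹ * φ h b) := by rw [← hab', mul_inv_cancel_left]
          have : φ h ((a : N) * (b : N)⁻¹) = (a : N) * (b : N)⁻¹ := by
            rw [map_mul, map_inv, ha]; group
          exact Subtype.ext (mul_inv_eq_one.mp ((hfpf _ _ this).resolve_left hh))
        obtain ⟨c, hc⟩ := Finite.surjective_of_injective hinj ⟨_, hzK⟩
        have hc' : (c : N)⁻¹ * φ h c = (z : N)⁻¹ * φ h z := congrArg Subtype.val hc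
        have hz : φ h z = z * ((c : N)⁻¹ * φ h c) := by rw [hc', mul_inv_cancel_left]
        have : φ h ((z : N) * (c : N)⁻¹) = (z : N) * (c : N)⁻¹ := by
          rw [map_mul, map_inv, hz]; group
        have hzc : (z : N) = c := mul_inv_eq_one.mp ((hfpf _ _ this).resolve_left hh)
        show Abelianization.of z = 1
        refine (QuotientGroup.eq_one_iff (N := commutator D) z).mpr ?_
        obtain ⟨y, hy, hyc⟩ := (hKmap.symm ▸ c.2 : (c : N) ∈ (commutator D).map D.subtype)
        rwa [show z = y from Subtype.ext (hzc.trans hyc.symm)])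
  have havg : avg ρB = PD + (1 - PK) := by
    have hY : avg ρD = PD + (1 - PK) := by
      show (Fintype.card D : k)⁻¹ • ∑ z : D, (ρ z * PK + (1 - PK)) = _
      rw [Finset.sum_add_distrib, ← Finset.sum_mul, smul_add, Finset.sum_const, Finset.card_univ,
        ← Nat.cast_smul_eq_nsmul k, smul_smul, inv_mul_cancel₀ (hcard D), one_smul, ← smul_mul_assoc]
      exact congrArg (· + (1 - PK)) hKPD.2
    rw [← hY]
    have h1 : avg ρB * avg ρD = avg ρB := (avg_mul_of_fix (hcard D) ρD _).2 fun z =>
      (avg_absorb ρB (Abelianization.of z)).2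
    have h2 : avg ρB * avg ρD = avg ρD := (avg_mul_of_fix hcardB ρB _).1 fun b => by
      induction b using QuotientGroup.induction_on with
      | _ z => exact (avg_absorb ρD z).1
    exact h1.symm.trans h2
  rw [havg] at he₂
  refine ⟨e₁ + e₂, ?_⟩
  have := he₁.add he₂ (by
      simp only [sub_mul, mul_sub, one_mul, mul_one, mul_add, hKPD.1, hPKK]; abel) (by
      simp only [sub_mul, mul_sub, one_mul, mul_one, add_mul, hKPD.2, hPKK]; abel)
  convert this using 1
  abel

end Cfsg.Agent.FrobFree
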