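import Mathlib

set_option autoImplicit false

namespace Cfsg.Agent.FrobFree

theorem field_normal {G L : Type*} [Group G] [Fintype G] [Field L] [MulSemiringAction G L]
    [FaithfulSMul G L] :
    ∃ θ : L, ∀ c : G → L, (∀ s : G, ∑ t, ((s * t) • θ) * c t = 0) → ∀ t, c t = 0 := by
  classical
  haveI : IsGalois (FixedPoints.subfield G L) L :=
    isGalois_iff.mpr ⟨inferInstance, inferInstance⟩
  obtain ⟨θ, hθ⟩ := exists_linearIndependent_algEquiv_apply (FixedPoints.subfield G L) L
  have hli : LinearIndependent (FixedPoints.subfield G L) (fun t : G => t • θ) :=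
    hθ.comp _ (FixedPoints.toAlgAut_bijective G L).injective
  refine ⟨θ, fun c hc t₀ => ?_⟩
  have hT : ∀ x : L, ∑ s : G, (s • c t₀) * (s • x) = 0 := by
    intro x
    have hmem : ∀ t, (∑ s : G, (s • c t) * (s • x)) ∈ FixedPoints.subfield G L := by
      intro t g
      rw [Finset.smul_sum]
      simp only [smul_mul', smul_smul]
      exact Fintype.sum_equiv (Equiv.mulLeft g) _ _ (fun s => rfl)
    have hsum : ∑ t, (⟨_, hmem t⟩ : FixedPoints.subfield G L) • (t • θ) = 0 := by
      show ∑ t, (∑ s : G, (s • c t) * (s • x)) * (t • θ) = 0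
      simp only [Finset.sum_mul]
      rw [Finset.sum_comm]
      refine Finset.sum_eq_zero fun s _ => ?_
      have h := congrArg (s • ·) (hc s⁻¹)
      simp only [Finset.smul_sum, smul_mul', smul_smul, mul_inv_cancel_left, smul_zero] at h
      calc ∑ t, s • c t * s • x * t • θ = ∑ t, (s • x) * (t • θ * s • c t) :=
            Finset.sum_congr rfl fun t _ => by ring
        _ = (s • x) * ∑ t, (t • θ * s • c t) := by rw [Finset.mul_sum]
        _ = 0 := by rw [h, mul_zero]
    exact congrArg Subtype.val (Fintype.linearIndependent_iff.mp hli _ hsum t₀)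
  let f : G → (L →* L) := fun s => (MulSemiringAction.toRingHom G L s : L →* L)
  have hf : Function.Injective f := fun a b h =>
    eq_of_smul_eq_smul (fun x : L => DFunLike.congr_fun h x)
  have hLI := (linearIndependent_monoidHom L L).comp f hf
  have h1 := Fintype.linearIndependent_iff.mp hLI (fun s => s • c t₀)
    (by
      funext x
      simpa [f] using hT x) 1
  simpa using h1

theorem galois_pair {R : Type*} [CommRing R] [IsSemisimpleRing R] {H : Type*} [Group H] [Fintype H]
    [DecidableEq H] (α : H →* (R ≃+* R)) (Q : R) (hQ : Q * Q = Q) (hfix : ∀ h, α h Q = Q)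
    (hgal : ∀ m : Ideal R, m.IsMaximal → Q ∉ m → ∀ h : H, h ≠ 1 → ∃ r, α h r - r ∉ m) :
    ∃ θ θ' : R, Q * θ' = θ' ∧
      (∀ k, ∑ h, α (k * h) θ * α h θ' = if k = 1 then Q else 0) ∧
      (∀ h k, ∑ g, α g (α h θ * α k θ') = if h = k then Q else 0) := by
  classical
  have αmul : ∀ a b x, α a (α b x) = α (a * b) x := fun a b x => by rw [map_mul]; rfl
  have αone : ∀ x, α 1 x = x := fun x => by rw [map_one]; rfl
  have αM : ∀ g x y, α g (x * y) = α g x * α g y := fun g => map_mul (α g)
  let S : Setoid (MaximalSpectrum R) :=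
    ⟨fun m m' => ∃ g : H, ∀ x, x ∈ m.asIdeal ↔ α g x ∈ m'.asIdeal,
     fun m => ⟨1, fun x => by rw [αone]⟩,
     fun ⟨g, hg⟩ => ⟨g⁻¹, fun x => by rw [hg (α g⁻¹ x), αmul, mul_inv_cancel, αone]⟩,
     fun ⟨g, hg⟩ ⟨g', hg'⟩ => ⟨g' * g, fun x => by rw [hg x, hg', αmul]⟩⟩
  let rep : MaximalSpectrum R → MaximalSpectrum R := fun m => (Quotient.mk S m).out
  have hnb : ∀ m : MaximalSpectrum R, Q ∉ m.asIdeal → ∃ θ0 : R, ∀ c : H → R,
      (∀ s : H, (∀ x, x ∈ m.asIdeal ↔ α s x ∈ m.asIdeal) →
        ∑ t ∈ Finset.univ.filter (fun t : H => ∀ x, x ∈ m.asIdeal ↔ α t x ∈ m.asIdeal),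
          α (s * t) θ0 * c t ∈ m.asIdeal) →
      ∀ t : H, (∀ x, x ∈ m.asIdeal ↔ α t x ∈ m.asIdeal) → c t ∈ m.asIdeal := by
    intro m hQm
    let H0 : Subgroup H :=
      { carrier := {g | ∀ x, x ∈ m.asIdeal ↔ α g x ∈ m.asIdeal}
        one_mem' := fun x => by rw [αone]
        mul_mem' := fun {a b} ha hb x => by rw [hb x, ha, αmul]
        inv_mem' := fun {a} ha x => by rw [ha (α a⁻¹ x), αmul, mul_inv_cancel, αone] }
    haveI := m.isMaximal
    letI : Field (R ⧸ m.asIdeal) := Ideal.Quotient.field m.asIdeal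
    have hmap : ∀ g : H0, Ideal.map (α (g : H) : R →+* R) m.asIdeal = m.asIdeal := by
      intro g
      refine le_antisymm (Ideal.map_le_iff_le_comap.mpr fun y hy => (g.2 y).mp hy) fun x hx => ?_
      have hx' : α (g : H)⁻¹ x ∈ m.asIdeal := ((g⁻¹).2 x).mp hx
      have := Ideal.mem_map_of_mem (α (g : H) : R →+* R) hx'
      rwa [RingEquiv.coe_toRingHom, αmul, mul_inv_cancel, αone] at this
    let ψ0 : H0 → RingAut (R ⧸ m.asIdeal) := fun g =>
      Ideal.quotientEquiv m.asIdeal m.asIdeal (α (g : H)) (hmap g).symm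
    have hψ : ∀ g x, ψ0 g (Ideal.Quotient.mk _ x) = Ideal.Quotient.mk _ (α (g : H) x) :=
      fun g x => Ideal.quotientEquiv_mk _ _ _ _ _
    let ψ : H0 →* RingAut (R ⧸ m.asIdeal) :=
      { toFun := ψ0
        map_one' := RingEquiv.ext fun x => by
          obtain ⟨y, rfl⟩ := Ideal.Quotient.mk_surjective x
          rw [hψ]; simp only [OneMemClass.coe_one, αone]; rfl
        map_mul' := fun a b => RingEquiv.ext fun x => by
          obtain ⟨y, rfl⟩ := Ideal.Quotient.mk_surjective x
          have : ψ0 a (ψ0 b (Ideal.Quotient.mk m.asIdeal y)) =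
              ψ0 (a * b) (Ideal.Quotient.mk m.asIdeal y) := by
            rw [hψ, hψ, hψ, αmul]; rfl
          exact this.symm }
    letI act : MulSemiringAction H0 (R ⧸ m.asIdeal) := MulSemiringAction.compHom _ ψ
    have hsmul : ∀ (g : H0) x, g • (Ideal.Quotient.mk m.asIdeal x) =
        Ideal.Quotient.mk m.asIdeal (α (g : H) x) := hψ
    haveI : FaithfulSMul H0 (R ⧸ m.asIdeal) := ⟨fun {a b} hab => by
      by_contra hne
      have hne' : ((b : H)⁻¹ * (a : H)) ≠ 1 := fun h =>
        hne (Subtype.ext (inv_mul_eq_one.mp h).symm)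
      obtain ⟨r, hr⟩ := hgal _ m.isMaximal hQm _ hne'
      apply hr
      rw [← Ideal.Quotient.eq]
      have := hab (Ideal.Quotient.mk m.asIdeal r)
      have h2 : (b⁻¹ * a : H0) • Ideal.Quotient.mk m.asIdeal r = Ideal.Quotient.mk m.asIdeal r := by
        rw [mul_smul, this, inv_smul_smul]
      rwa [hsmul] at h2⟩
    obtain ⟨θb, hθb⟩ := field_normal (G := H0) (L := R ⧸ m.asIdeal)
    obtain ⟨θ0, rfl⟩ := Ideal.Quotient.mk_surjective θb
    refine ⟨θ0, fun c hc t ht => ?_⟩
    have := hθb (fun t => Ideal.Quotient.mk _ (c (t : H))) (fun s => by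
      have h := hc (s : H) s.2
      rw [← Ideal.Quotient.eq_zero_iff_mem, map_sum] at h
      rw [Finset.sum_subtype (p := fun g : H => g ∈ H0)
        (Finset.univ.filter (fun t : H => ∀ x, x ∈ m.asIdeal ↔ α t x ∈ m.asIdeal))
        (fun g => by rw [Finset.mem_filter]; exact ⟨fun h => h.2, fun h => ⟨Finset.mem_univ _, h⟩⟩)
        (fun t : H => Ideal.Quotient.mk m.asIdeal (α ((s : H) * t) θ0 * c t))] at h
      refine Eq.trans (Finset.sum_congr rfl fun t _ => ?_) h
      rw [hsmul, map_mul (Ideal.Quotient.mk m.asIdeal)]; rfl) ⟨t, ht⟩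
    exact Ideal.Quotient.eq_zero_iff_mem.mp this
  choose th hth using hnb
  let tgt : MaximalSpectrum R → R := fun m =>
    if h : rep m = m ∧ Q ∉ m.asIdeal then th m h.2 else 0
  obtain ⟨θ₁, hθ₁⟩ := Ideal.exists_forall_sub_mem_ideal
    (I := fun m : MaximalSpectrum R => m.asIdeal)
    (fun a b hab => m_coprime a b hab) tgt
  have hQ1 : ∀ m : MaximalSpectrum R, Q ∉ m.asIdeal → 1 - Q ∈ m.asIdeal := fun m hm =>
    (m.isMaximal.isPrime.mem_or_mem (show Q * (1 - Q) ∈ m.asIdeal by
      rw [mul_sub, mul_one, hQ, sub_self]; exact zero_mem _)).resolve_left hm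
  set θ := θ₁ * Q with hθdef
  have hθQ : ∀ g, α g θ * Q = α g θ := fun g => by
    rw [hθdef, map_mul, hfix, mul_assoc, hQ]
  have hθm : ∀ m : MaximalSpectrum R, θ - tgt m ∈ m.asIdeal := by
    intro m
    by_cases hm : Q ∈ m.asIdeal
    · have ht : tgt m = 0 := dif_neg (fun h => h.2 hm)
      rw [ht, sub_zero]; exact m.asIdeal.mul_mem_left _ hm
    · have := m.asIdeal.sub_mem (hθ₁ m) (m.asIdeal.mul_mem_left θ₁ (hQ1 m hm))
      convert this using 1
      rw [hθdef]; ring
  have hkey : ∀ c : H → R, (∀ k, ∑ h, α (k * h) θ * c h + (1 - Q) * c k = 0) → c = 0 := by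
    intro c hc
    funext k₀
    have hmem : ∀ m : MaximalSpectrum R, c k₀ ∈ m.asIdeal := by
      intro m
      by_cases hm : Q ∈ m.asIdeal
      · have h1 : (1 - Q) * c k₀ ∈ m.asIdeal := by
          have := hc k₀
          rw [eq_neg_of_add_eq_zero_right this]
          exact neg_mem (Ideal.sum_mem _ fun h _ => by
            rw [← hθQ]; exact m.asIdeal.mul_mem_right _ (m.asIdeal.mul_mem_left _ hm))
        refine (m.isMaximal.isPrime.mem_or_mem h1).resolve_left fun h2 => ?_
        exact m.isMaximal.ne_top ((Ideal.eq_top_iff_one _).mpr (by simpa using add_mem h2 hm))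
      · have hsum : ∀ k, ∑ h, α (k * h) θ * c h ∈ m.asIdeal := fun k => by
          rw [eq_neg_of_add_eq_zero_left (hc k)]
          exact neg_mem (m.asIdeal.mul_mem_right _ (hQ1 m hm))
        let m0 := rep m
        obtain ⟨g, hg⟩ : ∃ g : H, ∀ x, x ∈ m0.asIdeal ↔ α g x ∈ m.asIdeal := Quotient.mk_out m
        have hrep : rep m0 = m0 := by
          show (Quotient.mk S (Quotient.mk S m).out).out = _
          rw [Quotient.out_eq]
        have hQ0 : Q ∉ m0.asIdeal := fun h => hm (by simpa [hfix] using (hg Q).mp h)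
        have htgt : tgt m0 = th m0 hQ0 := dif_pos ⟨hrep, hQ0⟩
        let d : H → R := fun h => α g⁻¹ (c h)
        have hd : ∀ k, ∑ h, α (k * h) θ * d h ∈ m0.asIdeal := fun k => by
          rw [hg, map_sum]
          simp only [αM, d, αmul, mul_inv_cancel, αone]
          convert hsum (g * k) using 3 with h
          rw [mul_assoc]
        have hout : ∀ u : H, ¬ (∀ x, x ∈ m0.asIdeal ↔ α u x ∈ m0.asIdeal) → α u θ ∈ m0.asIdeal := by
          intro u hu
          haveI := m0.isMaximal
          let m' : MaximalSpectrum R := ⟨m0.asIdeal.comap (α u : R →+* R),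
            Ideal.comap_isMaximal_of_surjective _ (α u).surjective⟩
          have hne : m' ≠ m0 := fun h => hu fun x => by
            conv_lhs => rw [← h]
            rfl
          have hrep' : rep m' = m0 := by
            show (Quotient.mk S m').out = _
            rw [Quotient.sound (show S m' m0 from ⟨u, fun x => Iff.rfl⟩)]
            exact hrep
          have ht : tgt m' = 0 := dif_neg (fun h => hne (h.1.symm.trans hrep'))
          have := hθm m'
          rw [ht, sub_zero] at this
          exact this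
        have := hth m0 hQ0 (fun t => d (k₀ * t)) (fun s hs => by
          have h := hd (s * k₀⁻¹)
          rw [← Fintype.sum_equiv (Equiv.mulLeft k₀) (fun t => α (s * t) θ * d (k₀ * t))
            (fun h => α (s * k₀⁻¹ * h) θ * d h) (fun t => by
              simp only [Equiv.coe_mulLeft, mul_assoc, inv_mul_cancel_left])] at h
          rw [← Finset.sum_filter_add_sum_filter_not Finset.univ
            (fun t : H => ∀ x, x ∈ m0.asIdeal ↔ α t x ∈ m0.asIdeal)] at h
          have h2 := (Ideal.add_mem_iff_left m0.asIdeal (Ideal.sum_mem _ fun t ht => by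
            refine m0.asIdeal.mul_mem_right _ (hout _ fun hst => (Finset.mem_filter.mp ht).2 ?_)
            intro x
            rw [hst x, ← αmul, ← hs])).mp h
          have h3 : ∀ t ∈ Finset.univ.filter
              (fun t : H => ∀ x, x ∈ m0.asIdeal ↔ α t x ∈ m0.asIdeal),
              α (s * t) θ * d (k₀ * t) - α (s * t) (th m0 hQ0) * d (k₀ * t) ∈ m0.asIdeal := by
            intro t ht
            rw [← sub_mul, ← map_sub]
            refine m0.asIdeal.mul_mem_right _ ?_
            rw [← αmul, ← hs, ← (Finset.mem_filter.mp ht).2, ← htgt]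
            exact hθm m0
          have h4 := Ideal.sum_mem _ h3
          rw [Finset.sum_sub_distrib] at h4
          simpa using sub_mem h2 h4) 1 (fun x => by rw [αone])
        have h5 : d k₀ ∈ m0.asIdeal := by simpa using this
        rw [hg] at h5
        simpa [d, αmul, αone] using h5
    have : c k₀ ∈ Ring.jacobson R := by
      rw [Ring.jacobson_eq_sInf_isMaximal, Ideal.mem_sInf]
      exact fun {I} hI => hmem ⟨I, hI⟩
    simpa [IsSemisimpleRing.jacobson_eq_bot] using this
  let M : (H → R) →ₗ[R] (H → R) :=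
    { toFun := fun c k => ∑ h, α (k * h) θ * c h + (1 - Q) * c k
      map_add' := fun a b => funext fun k => by
        simp only [Pi.add_apply, mul_add, Finset.sum_add_distrib]; abel
      map_smul' := fun r a => funext fun k => by
        simp only [Pi.smul_apply, smul_eq_mul, RingHom.id_apply, mul_add, Finset.mul_sum]
        congr 1
        · exact Finset.sum_congr rfl fun h _ => by ring
        · ring }
  have hinj : Function.Injective M := (injective_iff_map_eq_zero M).mpr fun c hc =>
    hkey c fun k => congrFun hc k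
  obtain ⟨x, hx⟩ := (IsArtinian.bijective_of_injective_endomorphism M hinj).surjective
    (fun k => if k = 1 then Q else 0)
  have hQQ : ∀ k : H, Q * (if k = 1 then Q else 0) = if k = 1 then Q else 0 := fun k => by
    split_ifs <;> simp [hQ]
  have hxQ : Q • x = x := hinj (by
    rw [map_smul, hx]; funext k; exact hQQ k)
  have hxeq : ∀ k, ∑ h, α (k * h) θ * x h = if k = 1 then Q else 0 := fun k => by
    have h1 : ∑ h, α (k * h) θ * x h + (1 - Q) * x k = _ := congrFun hx k
    have h2 : (1 - Q) * x k = 0 := by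
      rw [← hxQ]; simp only [Pi.smul_apply, smul_eq_mul]; rw [← mul_assoc, sub_mul, one_mul, hQ, sub_self, zero_mul]
    rw [h2, add_zero] at h1
    exact h1
  have hxk : ∀ k, Q * x k = x k := fun k => congrFun hxQ k
  have hequi : ∀ g h, α g (x (g⁻¹ * h)) = x h := by
    intro g
    have : (fun h => α g (x (g⁻¹ * h))) = x := hinj (by
      rw [hx]; funext k
      show ∑ h, α (k * h) θ * α g (x (g⁻¹ * h)) + (1 - Q) * α g (x (g⁻¹ * k)) = _
      have h2 : (1 - Q) * α g (x (g⁻¹ * k)) = 0 := by
        rw [← hxk, map_mul, hfix, ← mul_assoc, sub_mul, one_mul, hQ, sub_self, zero_mul]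
      rw [h2, add_zero]
      have h3 := congrArg (α g) (hxeq (g⁻¹ * k * g))
      rw [map_sum] at h3
      simp only [αM, αmul] at h3
      rw [← Fintype.sum_equiv (Equiv.mulLeft g) _ (fun h => α (k * h) θ * α g (x (g⁻¹ * h)))
        (fun h => rfl)]
      simp only [Equiv.coe_mulLeft, inv_mul_cancel_left]
      simp only [mul_assoc, mul_inv_cancel_left] at h3 ⊢
      rw [h3]
      have : g⁻¹ * (k * g) = 1 ↔ k = 1 := by
        constructor
        · intro h; simpa [mul_assoc] using congrArg (fun z => g * z * g⁻¹) h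
        · rintro rfl; simp
      by_cases hk : k = 1
      · rw [if_pos (this.mpr hk), if_pos hk, hfix]
      · rw [if_neg (fun h => hk (this.mp h)), if_neg hk, map_zero])
    exact fun h => congrFun this h
  have hxh : ∀ h, x h = α h (x 1) := fun h => by simpa using (hequi h h).symm
  refine ⟨θ, x 1, hxk 1, fun k => by simpa only [← hxh] using hxeq k, ?_⟩
  have hd : ∀ a b : H, ∑ c, (if a = c then 1 - Q else 0) * (if c = b then 1 - Q else 0) =
      if a = b then 1 - Q else 0 := by
    intro a b
    simp only [ite_mul, zero_mul, Finset.sum_ite_eq, Finset.mem_univ, if_true]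
    split_ifs
    · rw [sub_mul, one_mul, mul_sub, mul_one, hQ, sub_self, sub_zero]
    · rw [mul_zero]
  let N : Matrix H H R := Matrix.of fun a b => α (a * b) θ + if a = b then 1 - Q else 0
  let P : Matrix H H R := Matrix.of fun a b => α (b * a) (x 1) + if a = b then 1 - Q else 0
  have hθ0 : ∀ g, α g θ * (1 - Q) = 0 := fun g => by rw [mul_sub, mul_one, hθQ, sub_self]
  have hx0 : ∀ g, α g (x 1) * (1 - Q) = 0 := fun g => by
    rw [← hxk, map_mul, hfix, mul_comm, ← mul_assoc, sub_mul, one_mul, hQ, sub_self, zero_mul]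
  have hNP : N * P = 1 := by
    ext a b
    simp only [Matrix.mul_apply, N, P, Matrix.of_apply, mul_add, add_mul, Finset.sum_add_distrib]
    have h0 : ∀ (p : Prop) [Decidable p] (g : H), α g θ * (if p then 1 - Q else 0) = 0 := by
      intro p _ g; split_ifs <;> simp [hθ0]
    have h0' : ∀ (p : Prop) [Decidable p] (g : H), (if p then 1 - Q else 0) * α g (x 1) = 0 := by
      intro p _ g; split_ifs <;> simp [mul_comm _ (α g _), hx0]
    simp only [h0, h0', Finset.sum_const_zero, add_zero]
    have h1 : ∑ c, α (a * c) θ * α (b * c) (x 1) = α b (if b⁻¹ * a = 1 then Q else 0) := by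
      rw [← hxeq (b⁻¹ * a), map_sum]
      refine Finset.sum_congr rfl fun c _ => ?_
      rw [hxh c, αM b, αmul, αmul, show b * (b⁻¹ * a * c) = a * c by group]
    rw [h1]
    by_cases hab : a = b
    · subst hab
      simp only [inv_mul_cancel, if_true, hfix, Matrix.one_apply_eq, hd]
      ring
    · have : b⁻¹ * a ≠ 1 := fun h => hab (inv_mul_eq_one.mp h).symm
      rw [if_neg this, map_zero, Matrix.one_apply_ne hab]
      simp [hd, hab]
  intro h k
  have hPN := Matrix.ext_iff.mpr (mul_eq_one_comm.mp hNP) k h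
  simp only [Matrix.mul_apply, N, P, Matrix.of_apply, mul_add, add_mul, Finset.sum_add_distrib] at hPN
  have h0 : ∀ (p : Prop) [Decidable p] (g : H), α g (x 1) * (if p then 1 - Q else 0) = 0 := by
    intro p _ g; split_ifs <;> simp [hx0]
  have h0' : ∀ (p : Prop) [Decidable p] (g : H), (if p then 1 - Q else 0) * α g θ = 0 := by
    intro p _ g; split_ifs <;> simp [mul_comm _ (α g _), hθ0]
  simp only [h0, h0', Finset.sum_const_zero, add_zero, zero_add, hd] at hPN
  have h1 : ∑ g, α g (α h θ * α k (x 1)) = ∑ g, α (g * k) (x 1) * α (g * h) θ :=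
    Finset.sum_congr rfl fun g _ => by rw [map_mul, αmul, αmul, mul_comm]
  rw [h1]
  by_cases hkh : h = k
  · subst hkh
    rw [if_pos rfl, Matrix.one_apply_eq] at hPN
    rw [if_pos rfl]
    linear_combination hPN
  · rw [Matrix.one_apply_ne (Ne.symm hkh), if_neg (Ne.symm hkh), add_zero] at hPN
    rw [if_neg hkh]
    exact hPN
where
  m_coprime {R : Type _} [CommRing R] (a b : MaximalSpectrum R) (h : a ≠ b) :
      IsCoprime a.asIdeal b.asIdeal :=
    Ideal.isCoprime_iff_sup_eq.mpr (a.isMaximal.coprime_of_ne b.isMaximal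
      (fun e => h (MaximalSpectrum.ext e)))

end Cfsg.Agent.FrobFree
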